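import Cfsg.Agent.H670.Hg.Cls
import Cfsg.Agent.H978.RatB.Th

/-!
# `Th`, `p = 5`: a character of positive height in the principal block (helper670)
-/

set_option autoImplicit false

open Cfsg Subgroup

namespace Cfsg.Agent.H670.Hg.ThFive

open Cfsg.Agent.H978.RatB Cfsg.Agent.H492.IMCTh

/-- the prime part -/
theorem exists_prime_pow {G : Type*} [Group G] [Finite G] {y : G} (hy : y ≠ 1) :
    ∃ z : G, (orderOf z).Prime ∧ (orderOf z) ∣ orderOf y ∧ centralizer ({y} : Set G) ≤ centralizer ({z} : Set G) := by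
  obtain ⟨r, hr, hd⟩ := Nat.exists_prime_and_dvd (n := orderOf y) (fun h => hy (orderOf_eq_one_iff.1 h))
  obtain ⟨m, hm⟩ := hd
  have hm0 : m ≠ 0 := by
    rintro rfl
    rw [mul_zero] at hm
    exact (orderOf_pos y).ne' hm
  refine ⟨y ^ m, ?_, ?_, ?_⟩
  · rw [orderOf_pow' y hm0, hm, Nat.gcd_eq_right (Dvd.intro_left r rfl), Nat.mul_div_cancel _ (Nat.pos_of_ne_zero hm0)]
    exact hr
  · exact orderOf_pow_dvd m
  · intro x hx
    rw [mem_centralizer_singleton_iff] at hx ⊢
    exact (Commute.pow_right (show Commute x y from hx) m)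

/-- `(Th, 5)`: the character of degree `2450240` -/
theorem exists_deg {M : Ideal AlgInt} (hM : IsPModular 5 M) :
    ∃ χ : IrrCharacter Spor.Th, χ ∈ principalBlock M Spor.Th ∧ charDegree (χ : Spor.Th → ℂ) = 2450240 := by
  have := fin_th
  have : Fact (Nat.Prime 5) := ⟨by norm_num⟩
  obtain ⟨χ, hd, -⟩ := exists_of_val Cfsg.Agent.H492.ThRat.val_2450240
  have e1 : (Nat.card Spor.Th).factorization 5 = 3 := by
    rw [card_th]
    have h1 : (90745943887872000 : ℕ) = 5 ^ 3 * (2 ^ 15 * 3 ^ 10 * 7 ^ 2 * 13 * 19 * 31) := by norm_num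
    rw [h1]
    rw [Nat.factorization_mul (by norm_num) (by norm_num), Finsupp.add_apply, Nat.Prime.factorization_pow (by norm_num),
      Nat.factorization_eq_zero_of_not_dvd (n := 2 ^ 15 * 3 ^ 10 * 7 ^ 2 * 13 * 19 * 31) (by norm_num)]
    simp
  have e2 : (2450240 : ℕ).factorization 5 = 1 := by
    have h1 : (2450240 : ℕ) = 5 ^ 1 * 490048 := by norm_num
    rw [h1, Nat.factorization_mul (by norm_num) (by norm_num), Finsupp.add_apply, Nat.Prime.factorization_pow (by norm_num),
      Nat.factorization_eq_zero_of_not_dvd (n := 490048) (by norm_num)]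
    simp
  refine ⟨χ, mem_principal_of_class hM χ ?_ ?_, hd⟩
  · rw [hd, e1, e2]; norm_num
  · intro y hy hy5
    rw [hd, e1, e2]
    intro h
    obtain ⟨z, hz, hzd, hzc⟩ := exists_prime_pow hy
    have hz5 : orderOf z ≠ 5 := fun h5 => hy5 (h5 ▸ hzd)
    have h1 : 5 ^ 2 ∣ Nat.card (centralizer ({z} : Set Spor.Th)) := h.trans (Subgroup.card_dvd_of_le hzc)
    have : Fintype (centralizer ({z} : Set Spor.Th)) := Fintype.ofFinite _
    obtain ⟨x, hx⟩ := exists_prime_orderOf_dvd_card' (G := centralizer ({z} : Set Spor.Th)) 5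
      (Dvd.dvd.trans (by norm_num) h1)
    have hx' : orderOf (x : Spor.Th) = 5 := by rw [Subgroup.orderOf_coe, hx]
    have h2 : z ∈ centralizer ({(x : Spor.Th)} : Set Spor.Th) := by
      have := x.2
      rw [mem_centralizer_singleton_iff] at this ⊢
      exact this.symm
    have h3 := Subgroup.orderOf_dvd_natCard _ h2
    rw [Cfsg.Agent.H502.TO.card_five hx'] at h3
    have h4 : orderOf z ∣ 2 ^ 3 * 3 * 5 ^ 3 := h3.trans (by norm_num)
    have h5 : orderOf z = 2 ∨ orderOf z = 3 := by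
      rcases (hz.dvd_mul).1 h4 with h5 | h5
      · rcases (hz.dvd_mul).1 h5 with h6 | h6
        · exact Or.inl ((Nat.prime_dvd_prime_iff_eq hz Nat.prime_two).1 (hz.dvd_of_dvd_pow h6))
        · exact Or.inr ((Nat.prime_dvd_prime_iff_eq hz Nat.prime_three).1 h6)
      · exact (hz5 ((Nat.prime_dvd_prime_iff_eq hz Nat.prime_five).1 (hz.dvd_of_dvd_pow h5))).elim
    rcases h5 with h5 | h5
    · rw [Cfsg.Agent.MonsterX.ThOneClass.card_centralizer h5] at h1
      norm_num at h1
    · exact Cfsg.Agent.H491.PB.Th.not_25 h5 (Dvd.dvd.trans (by norm_num) h1)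

/-- **`(Th, 5)`**: the principal `5`-block contains a character of degree divisible by `5` -/
theorem exists_pos {M : Ideal AlgInt} (hM : IsPModular 5 M) :
    ∃ χ : IrrCharacter Spor.Th, χ ∈ principalBlock M Spor.Th ∧ 5 ∣ charDegree (χ : Spor.Th → ℂ) ∧
      (charDegree (χ : Spor.Th → ℂ)).factorization 5 = 1 := by
  obtain ⟨χ, h1, h2⟩ := exists_deg hM
  refine ⟨χ, h1, ?_, ?_⟩
  · rw [h2]; norm_num
  · rw [h2]
    have h3 : (2450240 : ℕ) = 5 ^ 1 * 490048 := by norm_num
    rw [h3, Nat.factorization_mul (by norm_num) (by norm_num), Finsupp.add_apply, Nat.Prime.factorization_pow (by norm_num),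
      Nat.factorization_eq_zero_of_not_dvd (n := 490048) (by norm_num)]
    simp

end Cfsg.Agent.H670.Hg.ThFive
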